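import Groth.Agent.KrullAki.Basic
import Mathlib.RingTheory.DedekindDomain.AdicValuation
import Mathlib.RingTheory.FractionalIdeal.Basic
import Mathlib.RingTheory.IntegralClosure.IsIntegralClosure.Basic
import Mathlib.RingTheory.IntegralClosure.IntegrallyClosed

/-! Elements with small values at all branches of a one-dimensional local domain. -/

noncomputable section

set_option linter.style.haveILetI false
set_option maxHeartbeats 1000000

universe u

open IsLocalRing
open scoped WithZero

namespace Groth.Agent.PoleSec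

variable {K : Type u} [Field K]

/-- An element with poles at finitely many given valuations. -/
theorem exists_pole {ι : Type*} [Finite ι] (v : ι → Valuation K ℤᵐ⁰) {A : Type*} [CommRing A]
    (φ : A →+* K) (h : ∀ i, ∃ a, 1 < v i (φ a)) : ∃ f, ∀ i, 1 < v i (φ f) := by
  classical
  haveI := Fintype.ofFinite ι
  suffices ∀ S : Finset ι, ∃ f, ∀ i ∈ S, 1 < v i (φ f) from
    (this Finset.univ).imp fun f hf i => hf i (Finset.mem_univ i)
  intro S
  induction S using Finset.induction_on with
  | empty => exact ⟨0, by simp⟩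
  | insert j S hj ih =>
    obtain ⟨f, hf⟩ := ih
    by_cases hjf : 1 < v j (φ f)
    · exact ⟨f, fun i hi => (Finset.mem_insert.1 hi).elim (fun e => e ▸ hjf) (hf i)⟩
    obtain ⟨a, ha⟩ := h j
    have hN : ∀ i ∈ S, ∃ N, ∀ M ≥ N, v i (φ a) < v i (φ f) ^ M := fun i hi => by
      obtain ⟨N, hN⟩ := MulArchimedean.arch (v i (φ a)) (hf i hi)
      exact ⟨N + 1, fun M hM => hN.trans_lt (pow_lt_pow_right₀ (hf i hi) hM)⟩
    choose! N hN using hN
    refine ⟨f ^ (S.sup N + 1) + a, fun i hi => ?_⟩
    rw [map_add, map_pow]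
    rcases Finset.mem_insert.1 hi with rfl | hi
    · rw [Valuation.map_add_eq_of_lt_right _
        (by rw [map_pow]; exact (pow_le_one₀ zero_le (not_lt.1 hjf)).trans_lt ha)]
      exact ha
    · rw [Valuation.map_add_eq_of_lt_left _
        (by rw [map_pow]; exact hN i hi _ ((Finset.le_sup hi).trans (Nat.le_succ _))), map_pow]
      exact one_lt_pow₀ (hf i hi) (Nat.succ_ne_zero _)

variable (O : Type u) [CommRing O] [IsDomain O] [IsNoetherianRing O] [IsLocalRing O]
  [Ring.KrullDimLE 1 O] [Algebra O K] [IsFractionRing O K]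

/-- Finitely many valuations of `K` centred at the maximal ideal of `O` detect the topological
nilpotence of elements of `K`. -/
theorem exists_branches (hO : maximalIdeal O ≠ ⊥) :
    ∃ (ι : Type u) (_ : Finite ι) (v : ι → Valuation K ℤᵐ⁰),
      (∀ i (o : O), v i (algebraMap O K o) ≤ 1) ∧
      (∀ i, ∀ o ∈ maximalIdeal O, v i (algebraMap O K o) < 1) ∧
      ∀ g : K, (∀ i, v i g < 1) → ∃ N, ∀ M ≥ N, ∃ o ∈ maximalIdeal O, algebraMap O K o = g ^ M := by
  classical
  let B : Subalgebra O K := integralClosure O K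
  haveI hNB : IsNoetherianRing B := KrullAki.isNoetherianRing_subalgebra B
  haveI hFB : IsFractionRing B K := KrullAki.isFractionRing_subalgebra B
  haveI : Ring.KrullDimLE 1 B := KrullAki.krullDimLE_one_subalgebra B
  haveI : Ring.DimensionLEOne B :=
    ⟨fun {p} hp hp' => Ring.krullDimLE_one_iff_of_noZeroDivisors.1 inferInstance p hp hp'⟩
  haveI : IsIntegrallyClosedIn B K := inferInstance
  haveI : IsDedekindDomain B := (isDedekindDomain_iff B K).2
    ⟨inferInstance, inferInstance, inferInstance, fun {x} hx => IsIntegrallyClosedIn.algebraMap_eq_of_integral hx⟩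
  haveI : Finite (MaximalSpectrum O) := inferInstance
  haveI hfin : Finite (MaximalSpectrum B) := KrullAki.finite_maximalSpectrum_subalgebra B
  haveI : Algebra.IsIntegral O B := inferInstance
  have hinj : Function.Injective (algebraMap O B) := fun a b h =>
    IsFractionRing.injective O K (congrArg Subtype.val h)
  let ι := IsDedekindDomain.HeightOneSpectrum B
  haveI : Finite ι := Finite.of_injective
    (fun P : ι => (⟨P.asIdeal, P.isPrime.isMaximal P.ne_bot⟩ : MaximalSpectrum B))
    fun P Q h => IsDedekindDomain.HeightOneSpectrum.ext (congrArg MaximalSpectrum.asIdeal h)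
  have hmem : ∀ (P : ι), ∀ o ∈ maximalIdeal O, algebraMap O B o ∈ P.asIdeal := fun P o ho => by
    haveI := P.isPrime.isMaximal P.ne_bot
    haveI := Ideal.isMaximal_comap_of_isIntegral_of_isMaximal (R := O) P.asIdeal
    have h := eq_maximalIdeal (inferInstance : (P.asIdeal.comap (algebraMap O B)).IsMaximal)
    rw [← h] at ho
    exact ho
  refine ⟨ι, inferInstance, fun P => P.valuation K, fun P o => P.valuation_le_one (K := K) (algebraMap O B o),
    fun P o ho => (P.valuation_lt_one_iff_mem (K := K) _).2 (hmem P o ho), fun g hg => ?_⟩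
  obtain ⟨gB, rfl⟩ := IsDedekindDomain.HeightOneSpectrum.mem_integers_of_valuation_le_one K g
    fun P => (hg P).le
  have hgP : ∀ P : ι, gB ∈ P.asIdeal := fun P => (P.valuation_lt_one_iff_mem (K := K) _).1 (hg P)
  obtain ⟨c, hc, hc0⟩ := Submodule.exists_mem_ne_zero_of_ne_bot hO
  have hcB : algebraMap O B c ≠ 0 := (map_ne_zero_iff _ hinj).2 hc0
  obtain ⟨n, hn⟩ : gB ∈ (Ideal.span {algebraMap O B c}).radical := by
    rw [Ideal.radical_eq_sInf, Ideal.mem_sInf]
    rintro P ⟨hle, hP⟩
    refine hgP ⟨P, hP, fun h => hcB ?_⟩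
    have := hle (Ideal.mem_span_singleton_self _)
    rwa [h, Ideal.mem_bot] at this
  obtain ⟨b, hb⟩ := Ideal.mem_span_singleton'.1 hn
  have hadj := fg_adjoin_of_finite (R := O) (s := {(b : K), (gB : K)}) (Set.toFinite _)
    (by rintro x (rfl | rfl); exacts [b.2, gB.2])
  obtain ⟨d, hd, hd'⟩ := FractionalIdeal.isFractional_of_fg (S := nonZeroDivisors O) hadj
  have hd0 : d ≠ 0 := nonZeroDivisors.ne_zero hd
  obtain ⟨k, hk⟩ : c ∈ (Ideal.span {d}).radical := by
    rw [Ideal.radical_eq_sInf, Ideal.mem_sInf]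
    rintro P ⟨hle, hP⟩
    have hPb : P ≠ ⊥ := fun h => hd0 (by
      have := hle (Ideal.mem_span_singleton_self d)
      rwa [h, Ideal.mem_bot] at this)
    rw [eq_maximalIdeal (Ring.krullDimLE_one_iff_of_noZeroDivisors.1 inferInstance P hPb hP)]
    exact hc
  obtain ⟨e, he⟩ := Ideal.mem_span_singleton'.1 hk
  refine ⟨n * (k + 1), fun M hM => ?_⟩
  obtain ⟨r, rfl⟩ := Nat.exists_eq_add_of_le hM
  have hz : (b : K) ^ (k + 1) * (gB : K) ^ r ∈ Algebra.adjoin O ({(b : K), (gB : K)} : Set K) :=
    mul_mem (pow_mem (Algebra.subset_adjoin (by simp)) _) (pow_mem (Algebra.subset_adjoin (by simp)) _)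
  obtain ⟨o, ho⟩ := hd' _ hz
  refine ⟨c * e * o, Ideal.mul_mem_right _ _ (Ideal.mul_mem_right _ _ hc), ?_⟩
  have hb' : (gB : K) ^ n = (b : K) * algebraMap O K c := (congrArg Subtype.val hb).symm
  have he' : algebraMap O K c ^ k = algebraMap O K e * algebraMap O K d := by
    rw [← map_pow, ← map_mul, he]
  change algebraMap O K (c * e * o) = (gB : K) ^ _
  have hpow : (gB : K) ^ (n * (k + 1) + r) = ((b : K) * algebraMap O K c) ^ (k + 1) * (gB : K) ^ r := by
    rw [pow_add, pow_mul, hb']
  rw [hpow, map_mul, map_mul, ho, Algebra.smul_def, mul_pow, pow_succ (algebraMap O K c), he']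
  ring

end Groth.Agent.PoleSec
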