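import Groth.Agent.PoleSec.Alg
import Groth.Agent.H23.CocycleMod
import Groth.Agent.InvX.GenLocus
import Groth.Agent.InvX.GenEpi
import Groth.Agent.ProjUPX.Affine
import Mathlib.AlgebraicGeometry.FunctionField
import Mathlib.AlgebraicGeometry.Morphisms.Separated

/-! Invertible modules from rational functions with prescribed poles. -/

noncomputable section

set_option linter.style.haveILetI false
set_option linter.unusedSectionVars false
set_option backward.isDefEq.respectTransparency false
set_option backward.isDefEq.respectTransparency.types false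
set_option maxHeartbeats 1000000

universe u

open CategoryTheory CategoryTheory.Limits AlgebraicGeometry TopologicalSpace
open scoped WithZero

namespace Groth.Agent.PoleSec

open Groth.Agent.AModX Groth.Agent.InvX Groth.Agent.H23

variable {X : Scheme.{u}} [IsIntegral X]

/-- The image in the function field of a section on a nonempty open. -/
abbrev toK (W : X.Opens) [Nonempty W] (r : Γ(X, W)) : X.functionField := X.germToFunctionField W r

theorem toK_res {V W : X.Opens} [Nonempty V] [Nonempty W] (h : V ≤ W) (r : Γ(X, W)) :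
    toK V (resR h r) = toK W r :=
  X.presheaf.germ_res_apply (homOfLE h) _ _ r

theorem algebraMap_germ {W : X.Opens} {x : X} (hx : x ∈ W) [Nonempty W] (r : Γ(X, W)) :
    algebraMap (X.presheaf.stalk x) X.functionField (X.presheaf.germ W x hx r) = toK W r :=
  X.algebraMap_germ_eq_germToFunctionField hx r

/-- Sections are determined by their images in the function field. -/
theorem eq_of_toK {W : X.Opens} (r r' : Γ(X, W)) (h : ∀ [Nonempty W], toK W r = toK W r') : r = r' := by
  by_cases hW : Nonempty W
  · exact X.germToFunctionField_injective W h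
  · have hb : W = ⊥ := Opens.ext (Set.eq_empty_of_forall_notMem fun p hp => hW ⟨⟨p, hp⟩⟩)
    subst hb
    exact Subsingleton.elim _ _

variable (X) in
/-- A divisor given by local equations in the function field. -/
structure LocEq (ι : Type u) where
  /-- The cover. -/
  U : ι → X.Opens
  nonempty : ∀ i, Nonempty (U i)
  cover : iSup U = ⊤
  /-- The equations. -/
  a : ι → X.functionField
  ne_zero : ∀ i, a i ≠ 0
  ratio : ∀ i j, ∃ r : Γ(X, U i ⊓ U j), ∀ [Nonempty (U i ⊓ U j : X.Opens)], toK _ r = a j / a i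

variable {ι : Type u} (D : LocEq X ι)

theorem LocEq.nonempty_inf (i j : ι) : Nonempty (D.U i ⊓ D.U j : X.Opens) := by
  obtain ⟨⟨p, hp⟩⟩ := D.nonempty i
  obtain ⟨⟨q, hq⟩⟩ := D.nonempty j
  have hη := (genericPoint_spec X).mem_open_set_iff (D.U i).2 |>.2 (by simpa using ⟨p, hp⟩)
  have hη' := (genericPoint_spec X).mem_open_set_iff (D.U j).2 |>.2 (by simpa using ⟨q, hq⟩)
  exact ⟨⟨genericPoint X, hη, hη'⟩⟩

/-- The transition units. -/
def LocEq.unit (i j : ι) : (Γ(X, D.U i ⊓ D.U j))ˣ :=
  haveI := D.nonempty_inf i j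
  haveI := D.nonempty_inf j i
  { val := (D.ratio i j).choose
    inv := resR (le_of_eq (inf_comm _ _)) (D.ratio j i).choose
    val_inv := X.germToFunctionField_injective _ (by
      rw [map_mul, map_one]
      show toK _ _ * toK _ (resR _ _) = 1
      rw [(D.ratio i j).choose_spec, toK_res, (D.ratio j i).choose_spec]
      field_simp [D.ne_zero i, D.ne_zero j])
    inv_val := X.germToFunctionField_injective _ (by
      rw [map_mul, map_one]
      show toK _ (resR _ _) * toK _ _ = 1
      rw [(D.ratio i j).choose_spec, toK_res, (D.ratio j i).choose_spec]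
      field_simp [D.ne_zero i, D.ne_zero j]) }

theorem LocEq.toK_unit (i j : ι) [Nonempty (D.U i ⊓ D.U j : X.Opens)] :
    toK _ (D.unit i j : Γ(X, D.U i ⊓ D.U j)) = D.a j / D.a i := (D.ratio i j).choose_spec

/-- The cocycle of local equations. -/
def LocEq.cocycle : CocycleMod.Cocycle D.U where
  g := D.unit
  trans i j k W hi hj hk := eq_of_toK _ _ (by
    intro hW
    haveI := D.nonempty_inf i k
    haveI := D.nonempty_inf j k
    haveI := D.nonempty_inf i j
    show toK _ _ = X.germToFunctionField W _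
    rw [map_mul]
    show toK _ (resR _ _) = toK _ (resR _ _) * toK _ (resR _ _)
    rw [toK_res, toK_res, toK_res, D.toK_unit, D.toK_unit, D.toK_unit]
    field_simp [D.ne_zero i, D.ne_zero j, D.ne_zero k])

theorem toK_tr (i j : ι) {W : X.Opens} [Nonempty W] (hi : W ≤ D.U i) (hj : W ≤ D.U j) :
    toK W (CocycleMod.tr D.cocycle i j W hi hj) = D.a j / D.a i := by
  haveI := D.nonempty_inf i j
  show toK W (resR _ (D.unit i j : Γ(X, D.U i ⊓ D.U j))) = _
  rw [toK_res, D.toK_unit]

/-- A rational function regular on the divisor is a global section. -/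
theorem LocEq.exists_section (q : X.functionField)
    (hq : ∀ i, ∃ r : Γ(X, D.U i), ∀ [Nonempty (D.U i)], toK _ r = q * D.a i) :
    ∃ σ : Γ(CocycleMod.mod D.cocycle, ⊤), ∀ i (r : Γ(X, D.U i)), (∀ [Nonempty (D.U i)], toK _ r = q * D.a i) →
      res _ le_top σ = r • CocycleMod.frame D.cocycle i := by
  choose r hr using hq
  have hco : CocycleMod.IsCo D.cocycle (W := ⊤) (fun i => resR inf_le_right (r i)) := fun x y V hV hx hy =>
    eq_of_toK _ _ (by
      intro hV'
      haveI := D.nonempty x
      haveI := D.nonempty y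
      show toK _ _ = X.germToFunctionField V _
      rw [map_mul]
      show toK _ (resR _ (resR _ _)) = toK _ _ * toK _ (resR _ (resR _ _))
      rw [resR_resR, resR_resR, toK_res, toK_res, hr, hr, toK_tr D x y hx hy]
      field_simp [D.ne_zero x])
  refine ⟨(⟨_, hco⟩ : CocycleMod.grp D.cocycle ⊤), fun i r' hr' => ?_⟩
  refine (show Function.Injective (CocycleMod.fam D.cocycle (W := D.U i)) from fun _ _ e => e)
    (CocycleMod.grp_ext _ fun y => eq_of_toK _ _ (by
      intro hV'
      haveI := D.nonempty i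
      haveI := D.nonempty y
      haveI := D.nonempty_inf i y
      rw [CocycleMod.fam_res, CocycleMod.fam_smul]
      show toK _ _ = X.germToFunctionField _ _
      rw [map_mul]
      show toK _ (resR _ (resR _ (r y))) = toK _ (resR _ r') * toK _ (CocycleMod.tr D.cocycle i y (D.U i ⊓ D.U y) inf_le_left inf_le_right)
      rw [resR_resR, toK_res, toK_res, hr, hr', toK_tr D i y inf_le_left inf_le_right]
      field_simp [D.ne_zero i]))

/-- A valuation centred at a point outside an affine open has a pole on some section over it. -/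
theorem exists_gt_one [X.IsSeparated] {U : X.Opens} (hU : IsAffineOpen U) [Nonempty U] {x : X}
    (hx : x ∉ U) (v : Valuation X.functionField ℤᵐ⁰)
    (h1 : ∀ o : X.presheaf.stalk x, v (algebraMap _ _ o) ≤ 1)
    (h2 : ∀ o ∈ IsLocalRing.maximalIdeal (X.presheaf.stalk x), v (algebraMap _ _ o) < 1) :
    ∃ a : Γ(X, U), 1 < v (toK U a) := by
  by_contra! h
  let R := v.valuationSubring
  let φA : Γ(X, U) →+* R := RingHom.codRestrict (X.germToFunctionField U).hom R.toSubring h
  let φO : X.presheaf.stalk x →+* R :=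
    RingHom.codRestrict (algebraMap (X.presheaf.stalk x) X.functionField) R.toSubring h1
  haveI : IsLocalHom φO := ⟨fun o ho => by
    by_contra hu
    have hlt := h2 o ((IsLocalRing.mem_maximalIdeal o).2 hu)
    obtain ⟨w, hw⟩ := ho
    have h3 : v (((w : R) : X.functionField)) * v (((w⁻¹ : Rˣ) : R) : X.functionField) = 1 := by
      rw [← map_mul, ← MulMemClass.coe_mul, Units.mul_inv]
      exact map_one v
    rw [hw] at h3
    exact (mul_le_of_le_one_right' ((w⁻¹ : Rˣ) : R).2).not_gt (h3.symm ▸ hlt)⟩
  let f₁ : Spec (CommRingCat.of R) ⟶ X := Spec.map (CommRingCat.ofHom φA) ≫ hU.fromSpec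
  let f₂ : Spec (CommRingCat.of R) ⟶ X := Spec.map (CommRingCat.ofHom φO) ≫ X.fromSpecStalk x
  let ι₀ : Spec X.functionField ⟶ Spec (CommRingCat.of R) := Spec.map (CommRingCat.ofHom R.subtype)
  haveI : IsDominant ι₀ := ⟨by
    show DenseRange (PrimeSpectrum.comap R.subtype)
    rw [PrimeSpectrum.denseRange_comap_iff_ker_le_nilRadical,
      (RingHom.injective_iff_ker_eq_bot _).1 Subtype.val_injective]
    exact bot_le⟩
  have hη : genericPoint X ∈ U := ((genericPoint_spec X).mem_open_set_iff U.2).2 (by simpa using ‹Nonempty U›)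
  have heq : f₁ = f₂ := ext_of_isDominant ι₀ (by
    simp only [f₁, f₂, ι₀, ← Spec.map_comp_assoc]
    rw [show CommRingCat.ofHom φA ≫ CommRingCat.ofHom R.subtype = X.presheaf.germ U (genericPoint X) hη from rfl,
      show CommRingCat.ofHom φO ≫ CommRingCat.ofHom R.subtype =
        X.presheaf.stalkSpecializes ((genericPoint_spec X).specializes trivial) from rfl,
      Scheme.SpecMap_stalkSpecializes_fromSpecStalk]
    exact hU.fromSpecStalk_eq_fromSpecStalk hη)
  have e2 : f₂ (IsLocalRing.closedPoint R) = x := by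
    show X.fromSpecStalk x (PrimeSpectrum.comap φO (IsLocalRing.closedPoint R)) = x
    rw [show PrimeSpectrum.comap φO (IsLocalRing.closedPoint R) = IsLocalRing.closedPoint (X.presheaf.stalk x) from
      IsLocalRing.comap_closedPoint φO, Scheme.fromSpecStalk_closedPoint]
  rw [← heq] at e2
  refine hx (e2 ▸ ?_)
  show hU.fromSpec _ ∈ (U : Set X)
  rw [← hU.range_fromSpec]
  exact Set.mem_range_self _

/-- A globally generated invertible module with a section generating exactly on a given affine open. -/
theorem exists_globallyGenerated [X.IsSeparated] (U : X.Opens) (hU : IsAffineOpen U)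
    (hne : (U : Set X).Nonempty) (hfin : ((U : Set X)ᶜ).Finite)
    (hloc : ∀ x : X, x ∉ U → IsNoetherianRing (X.presheaf.stalk x) ∧ ringKrullDim (X.presheaf.stalk x) = 1) :
    ∃ (L : X.Modules) (s : Coh.structureModule X ⟶ L), PicF.IsInvertible L ∧ Curv2.IsGloballyGenerated L ∧
      CohB1.genLocus L s = U := by
  classical
  haveI : Nonempty U := hne.to_subtype
  let S := {x : X // x ∉ U}
  haveI : Finite S := hfin.to_subtype
  have hbr : ∀ x : S, ∃ (ι : Type u) (_ : Finite ι) (v : ι → Valuation X.functionField ℤᵐ⁰),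
      (∀ i, ∃ a : Γ(X, U), 1 < v i (X.germToFunctionField U a)) ∧
      ∀ g, (∀ i, v i g < 1) → ∃ N, ∀ M ≥ N, ∃ o ∈ IsLocalRing.maximalIdeal (X.presheaf.stalk x.1),
        algebraMap _ X.functionField o = g ^ M := fun x => by
    obtain ⟨hN, hd⟩ := hloc x.1 x.2
    haveI : Ring.KrullDimLE 1 (X.presheaf.stalk x.1) := Ring.krullDimLE_iff.2 hd.le
    have hm : IsLocalRing.maximalIdeal (X.presheaf.stalk x.1) ≠ ⊥ := fun h => by
      rw [ringKrullDim_eq_zero_of_isField (IsLocalRing.isField_iff_maximalIdeal_eq.2 h)] at hd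
      exact zero_ne_one hd
    obtain ⟨ι, hι, v, h1, h2, h3⟩ := exists_branches (K := X.functionField) _ hm
    exact ⟨ι, hι, v, fun i => exists_gt_one hU x.2 (v i) (h1 i) (h2 i), h3⟩
  choose ι hι v hv hN using hbr
  obtain ⟨f₀, hf₀⟩ := exists_pole (fun p : Σ x : S, ι x => v p.1 p.2) (X.germToFunctionField U).hom
    fun p => hv p.1 p.2
  let f : X.functionField := toK U f₀
  by_cases hf0 : f = 0
  · -- no branches at all
    have hemp : ∀ x : S, False := fun x => by
      obtain ⟨N, hN'⟩ := hN x 1 fun i => absurd (hf₀ ⟨x, i⟩) (by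
        show ¬ 1 < v x i f
        simp [hf0])
      obtain ⟨o, ho, ho'⟩ := hN' N le_rfl
      rw [one_pow, ← map_one (algebraMap (X.presheaf.stalk x.1) X.functionField)] at ho'
      exact (IsLocalRing.maximalIdeal _).ne_top_iff_one.1 (IsLocalRing.maximalIdeal.isMaximal _).ne_top
        (IsFractionRing.injective _ _ ho' ▸ ho)
    have htop : U = ⊤ := Opens.ext (Set.eq_univ_of_forall fun x => by_contra fun hx => hemp ⟨x, hx⟩)
    subst htop
    have hfr : IsFrame (res (Coh.structureModule X) (le_top : (⊤ : X.Opens) ≤ ⊤) (one (𝟙 (Coh.structureModule X)))) := by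
      rw [← isIso_restrict_iff]
      infer_instance
    refine ⟨_, 𝟙 _, InvX.isInvertible_structureModule, ?_, top_le_iff.1 (le_genLocus _ hfr)⟩
    exact isGloballyGenerated_of_generated (s := fun _ : PUnit => one (𝟙 (Coh.structureModule X)))
      (ProjUPX.generatedBy_of_frames _ fun x => ⟨⟨⟩, ⊤, trivial, hfr⟩)
  have hpow : ∀ x : S, ∃ N, ∀ M ≥ N, ∃ o ∈ IsLocalRing.maximalIdeal (X.presheaf.stalk x.1),
      algebraMap _ X.functionField o = f⁻¹ ^ M := fun x => hN x _ fun i => by
    rw [map_inv₀]
    exact inv_lt_one_of_one_lt₀ (hf₀ ⟨x, i⟩)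
  choose N hN using hpow
  obtain ⟨M, hM⟩ := (Set.finite_range N).bddAbove
  let F : X.functionField := f ^ M
  let g : X.functionField := f⁻¹ ^ M
  have hFg : F * g = 1 := by rw [← mul_pow, mul_inv_cancel₀ hf0, one_pow]
  choose o ho hog using fun x => hN x M (hM ⟨x, rfl⟩)
  choose W hxW r hr using fun x : S => TopCat.Presheaf.exists_germ_eq X.presheaf (o x)
  haveI : ∀ x, Nonempty (W x) := fun x => ⟨⟨_, hxW x⟩⟩
  have hrK : ∀ x, toK (W x) (r x) = g := fun x => by rw [← algebraMap_germ (hxW x), hr, hog]
  let D : LocEq X (Option S) :=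
    { U := fun i => i.elim U W
      nonempty := fun i => by cases i with | none => exact ‹Nonempty U› | some x => exact ⟨⟨x.1, hxW x⟩⟩
      cover := Opens.ext (Set.eq_univ_of_forall fun p => Opens.mem_iSup.2 <| if hp : p ∈ U then ⟨none, hp⟩
        else ⟨some ⟨p, hp⟩, hxW ⟨p, hp⟩⟩)
      a := fun i => i.elim 1 fun _ => g
      ne_zero := fun i => by
        cases i
        · exact one_ne_zero
        · exact pow_ne_zero _ (inv_ne_zero hf0)
      ratio := fun i j => by
        rcases i with _ | x <;> rcases j with _ | y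
        · exact ⟨1, by intro h; simp⟩
        · refine ⟨resR (inf_le_right : U ⊓ W y ≤ W y) (r y), ?_⟩
          intro h
          haveI : Nonempty (U ⊓ W y : X.Opens) := h
          show toK (U ⊓ W y) _ = g / 1
          rw [toK_res, hrK, div_one]
        · refine ⟨resR (inf_le_right : W x ⊓ U ≤ U) (f₀ ^ M), ?_⟩
          intro h
          haveI : Nonempty (W x ⊓ U : X.Opens) := h
          show toK (W x ⊓ U) _ = 1 / g
          rw [toK_res, show toK U (f₀ ^ M) = F from map_pow _ _ _, one_div]
          exact (inv_eq_of_mul_eq_one_left hFg).symm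
        · refine ⟨1, ?_⟩
          intro h
          haveI : Nonempty (W x ⊓ W y : X.Opens) := h
          show toK (W x ⊓ W y) 1 = g / g
          rw [div_self (pow_ne_zero M (inv_ne_zero hf0))]
          exact map_one _ }
  obtain ⟨σ, hσ⟩ := D.exists_section 1 fun i => by
    cases i
    · exact ⟨1, by intro h; simp [D]⟩
    · exact ⟨r _, by intro h; simpa [D] using hrK _⟩
  obtain ⟨τ, hτ⟩ := D.exists_section F fun i => by
    cases i
    · exact ⟨f₀ ^ M, by intro h; simp [D, F, f]⟩
    · exact ⟨1, by intro h; simp [D, hFg]⟩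
  have hgl : CohB1.genLocus _ (ofSect σ) = U := by
    have h0 := genLocus_inf (ofSect σ) (CocycleMod.isFrame_frame D.cocycle none) (g := 1)
      (by rw [one_ofSect]; exact hσ none 1 (by intro h; simp [D]))
    rw [X.basicOpen_of_isUnit isUnit_one] at h0
    refine le_antisymm (fun p hp => by_contra fun hpU => ?_) (inf_eq_right.1 h0)
    have hs := genLocus_inf (ofSect σ) (CocycleMod.isFrame_frame D.cocycle (some ⟨p, hpU⟩)) (g := r ⟨p, hpU⟩)
      (by rw [one_ofSect]; exact hσ (some ⟨p, hpU⟩) (r _) (by intro h; simpa [D] using hrK _))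
    have hmem : p ∈ X.basicOpen (r ⟨p, hpU⟩) := hs ▸ ⟨hp, hxW ⟨p, hpU⟩⟩
    rw [X.mem_basicOpen _ _ (hxW ⟨p, hpU⟩), hr] at hmem
    exact (IsLocalRing.mem_maximalIdeal _).1 (ho ⟨p, hpU⟩) hmem
  refine ⟨_, ofSect σ, CocycleMod.isInvertible _ D.cover, isGloballyGenerated_of_generated
    (s := fun b : ULift.{u} Bool => if b.down then σ else τ)
    (ProjUPX.generatedBy_of_frames _ fun p => ?_), hgl⟩
  obtain ⟨i, hi⟩ := Opens.mem_iSup.1 (D.cover.ge (trivial : p ∈ (⊤ : X.Opens)))
  cases i with
  | none =>
    refine ⟨⟨true⟩, D.U none, hi, ?_⟩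
    show IsFrame (res _ (le_top : D.U none ≤ ⊤) σ)
    rw [hσ none 1 (by intro h; simp [D]), one_smul]
    exact CocycleMod.isFrame_frame D.cocycle none
  | some x =>
    refine ⟨⟨false⟩, D.U (some x), hi, ?_⟩
    show IsFrame (res _ (le_top : D.U (some x) ≤ ⊤) τ)
    rw [hτ (some x) 1 (by intro h; simp [D, hFg]), one_smul]
    exact CocycleMod.isFrame_frame D.cocycle (some x)

end Groth.Agent.PoleSec
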